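import Cfsg.Agent.SzC.E2

/-! The special group and the conjugates of the complement. -/

set_option autoImplicit false
set_option linter.unusedSectionVars false
set_option linter.constructorNameAsVariable false
set_option synthInstance.maxSize 2048

namespace CF.SzC
open Subgroup Cfsg CF.BG CF.GW CF.Ab2 Equiv CF.StA CF.Kondo

variable {G : Type*} [Group G] [Finite G] {n : ℕ} {u u' v t : V n} {σ : Perm (Fin n)} {a b c i j : Fin n} {k k' l l' m κ μ : K}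
  {ε ε' ζ ρ ξ : K → G} {Co : G → V n → Prop} {A B M Z : Subgroup G} {g o p p' q w x y η ν : G}

/-- a second root subgroup -/
structure Nn (A : Subgroup G) (ζ : K → G) (Co : G → V n → Prop) (η : G) (a b c i j : Fin n) (ε ε' : K → G) (ν : G) : Prop where
  ea : Ad ε
  ea' : Ad ε'
  ec : ∀ k, Co (ε k) (k • q4 a b c i)
  ec' : ∀ k, Co (ε' k) (k • q4 a b c j)
  nA : ν ∈ A
  nz : ∀ k, ν * ζ k * ν⁻¹ = ε k
  ne : ∀ k, ν * ε k * ν⁻¹ = ζ k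
  he : ∀ k, η * ε k * η⁻¹ = ε (ω' * k)

namespace In
variable (h : In A ζ Co Z B η a b c i j) (N : Nn A ζ Co η a b c i j ε ε' ν)
include h N

theorem eB (k : K) : ε k ∈ B := h.mem (N.ec k)
theorem eB' (k : K) : ε' k ∈ B := h.mem (N.ec' k)
theorem ez (k l : K) : ε k * ζ l = ζ l * ε k := h.cz (h.zc (h.eB N k)) l
theorem mE : x ∈ N.ea.rg ⊔ Z ↔ ∃ k l, ε k * ζ l = x := (mem_sup_norm (N.ea.le.2 fun k => h.PN (h.eB N k))).trans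
  ⟨fun ⟨_, ⟨k, e⟩, _, m, r⟩ => let ⟨l, e'⟩ := h.zm.1 m; ⟨k, l, e ▸ e' ▸ r⟩, fun ⟨k, l, e⟩ => ⟨_, N.ea.m k, _, h.zZ l, e⟩⟩
theorem EB : N.ea.rg ⊔ Z ≤ B := sup_le (N.ea.le.2 (h.eB N)) h.ZP
theorem BE : B ≤ 𝐍 (N.ea.rg ⊔ Z : Subgroup G) := h.nrm le_sup_right (h.EB N)
theorem nE : ν ∈ 𝐍 (N.ea.rg ⊔ Z : Subgroup G) := HNR.mem_norm_of fun _ hx => by
  obtain ⟨k, l, rfl⟩ := (h.mE N).1 hx
  exact (h.mE N).2 ⟨l, k, by rw [h.ez N, ← N.ne k, ← N.nz l]; group⟩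
theorem cE : x ∈ 𝐂 (N.ea.rg ⊔ Z : Subgroup G) ↔ (∀ k, x * ε k = ε k * x) ∧ x ∈ 𝐂 Z := by rw [cent_sup, mem_inf, N.ea.cent]
theorem ce (e : Co p u) (z : Bf u (q4 a b c i) = 0) : p ∈ A ⊓ 𝐂 (N.ea.rg ⊔ Z : Subgroup G) :=
  ⟨h.BA (h.mem e), (h.cE N).2 ⟨fun k => (h.comm_iff e (N.ec k)).2 (by simp [z]), h.zc (h.mem e)⟩⟩
theorem eC (k : K) : ε k ∈ A ⊓ 𝐂 (N.ea.rg ⊔ Z : Subgroup G) := h.ce N (N.ec k) (by simp [Bf_self])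
theorem zC (k : K) : ζ k ∈ A ⊓ 𝐂 (N.ea.rg ⊔ Z : Subgroup G) := h.ce N (h.z0 k) (by simp)
theorem CC : 𝐂 (A ⊓ 𝐂 (N.ea.rg ⊔ Z : Subgroup G) : Subgroup G) ≤ 𝐂 (N.ea.rg ⊔ Z : Subgroup G) := fun _ e =>
  (h.cE N).2 ⟨fun k => (mem_cent.1 e _ (h.eC N k)).symm, mem_cent.2 fun _ m => let ⟨k, r⟩ := h.zm.1 m; r ▸ mem_cent.1 e _ (h.zC N k)⟩
theorem YC : 𝐂 (A ⊓ 𝐂 Z : Subgroup G) ≤ 𝐂 (A ⊓ 𝐂 (N.ea.rg ⊔ Z : Subgroup G) : Subgroup G) :=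
  cent_anti (inf_le_inf_left _ (cent_anti le_sup_right))
theorem ee (k l : K) : ε' k * ε l * (ε' k)⁻¹ = ε l * ζ (k * l) := by
  rw [h.conj (N.ec' k) (N.ec l), smul_Bf, Bf_smul, h.d5.ee, mul_one]
theorem einj (e : ε k * ζ l = ε k' * ζ l') : k = k' ∧ l = l' := by
  obtain rfl : k = k' := add0.1 (h.d5.cne (add_smul k k' (q4 a b c i) ▸ h.cn (h.mulz (N.ec k) (h.zZ l)) (e ▸ h.mulz (N.ec k') (h.zZ l'))))
  exact ⟨rfl, h.zeq (mul_left_cancel e)⟩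
theorem nn : ν * ν ∈ A ⊓ 𝐂 Z := ⟨mul_mem N.nA N.nA, mem_cent.2 fun _ m => by
  obtain ⟨k, rfl⟩ := h.zm.1 m
  rw [← mul_inv_eq_iff_eq_mul.1 (show ν * ν * ζ k * (ν * ν)⁻¹ = ζ k by
    rw [show ν * ν * ζ k * (ν * ν)⁻¹ = ν * (ν * ζ k * ν⁻¹) * ν⁻¹ by group, N.nz, N.ne])]⟩

theorem ke (hw : w ∈ 𝐍 A) (e : w ∈ 𝐂 (A ⊓ 𝐂 (N.ea.rg ⊔ Z : Subgroup G) : Subgroup G)) : ∃ x ∈ 𝐂 A, ∃ k l, x * (ε k * ζ l) = w := by
  have wZ := ((h.cE N).1 (h.CC N e)).2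
  have nB := h.nq (h.nC ⟨hw, cent_le_norm _ wZ⟩)
  have pp : ∀ {p u v}, Co p u → Co (w * p * w⁻¹) v → ∃ l : K, Cn (v + u + l • q4 a b c i) := fun {p u v} r r' =>
    h.d5.perp ((h.sS r').add (h.sS r)) fun t x y z => by
      obtain ⟨q, s⟩ := h.sur t y x
      have c := mem_cent.1 e q (h.ce N s z)
      have := congrArg (w * · * w⁻¹) (h.conj r s)
      rw [show w * (p * q * p⁻¹) * w⁻¹ = w * p * w⁻¹ * (w * q * w⁻¹) * (w * p * w⁻¹)⁻¹ by group, ← mul_assoc w q,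
        ← c, mul_inv_cancel_right, h.conj r' s, mul_assoc q, mul_assoc q, h.cz' wZ] at this
      rw [add_Bf, add0, h.zeq (mul_left_cancel this)]
  have a1 : ∀ p u, Co p u → Bf u (q4 a b c i) ≠ 0 → Co (w * p * w⁻¹) u := fun p u r z => by
    obtain ⟨v, r'⟩ := h.ex _ (conj_mem_of_norm nB (h.mem r))
    obtain ⟨l, s⟩ := pp r r'
    refine h.cco r' (h.sz r) (fixe h.hn h.d5.d4 (h.sz r') (h.sz r) s (h.zeq ?_) z)
    rw [← h.sq r', ← h.cz' wZ, ← h.sq r]; group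
  obtain ⟨x, hx, q, hq, rfl⟩ := (mem_sup_norm' (norm_of_cent' (cent_anti h.BA))).1 (h.kr w ⟨hw, wZ⟩ fun p u r => by
    by_cases z : Bf u (q4 a b c i) = 0
    · rwa [← mem_cent.1 e p (h.ce N r z), mul_inv_cancel_right]
    · exact a1 p u r z)
  obtain ⟨u, r⟩ := h.ex q hq
  obtain ⟨k, s⟩ := h.d5.perp (h.sS r) fun t s y z => let ⟨p, r'⟩ := h.sur t y s; (h.comm_iff r r').1
    (mem_cent.1 ((mul_mem_cancel_left (cent_anti inf_le_left hx)).1 e) p (h.ce N r' z)).symm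
  obtain ⟨l, rfl⟩ := h.eqz' (N.ec k) r s.symm
  exact ⟨x, hx, k, l, rfl⟩

end In

/-- products -/
def Pr (Co : G → V n → Prop) (ρ ξ : K → G) (p : G) (u : V n) (k l : K) : Prop := ∃ q, Co q u ∧ q * ρ k * ξ l = p

namespace Xi
variable (h : Xi A ζ Co Z B η a b c i j g ρ ξ κ)
include h

theorem sw : Xi A ζ Co Z B η a b c j i g ρ ξ κ := { h with d5 := h.d5.sw' }
theorem xZ (k : K) : ξ k ∈ 𝐂 Z := h.BZ (h.YB (h.xY k))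
theorem xz (k l : K) : ξ k * ζ l = ζ l * ξ k := h.cz (h.xZ k) l
theorem xr (k l : K) : ξ k * ρ l = ρ l * ζ (k * l) * ξ k := mul_inv_eq_iff_eq_mul.1 (h.xm k l)
theorem qx (hq : q ∈ B) (k : K) : q * ξ k = ξ k * q := mem_cent.1 (h.xY k) q (h.BC hq)
theorem qr (hq : q ∈ B) (k : K) : q * ρ k = ρ k * q := mem_cent.1 (h.rK k) q (h.BA hq)
theorem pq (e : Co q u) : Pr Co ρ ξ q u 0 0 := ⟨q, e, by rw [h.ra.z, h.x0, mul_one, mul_one]⟩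
theorem pr (k : K) : Pr Co ρ ξ (ρ k) 0 k 0 := ⟨1, h.co0 (one_mem _), by rw [h.x0, mul_one, one_mul]⟩
theorem px (k : K) : Pr Co ρ ξ (ξ k) 0 0 k := ⟨1, h.co0 (one_mem _), by rw [h.ra.z, mul_one, one_mul]⟩
theorem mul3 (hq : q ∈ B) (p : G) (k l k' l' : K) :
    p * ρ k * ξ l * (q * ρ k' * ξ l') = p * q * ζ (l * k') * ρ (k + k') * (ξ l * ξ l') := by
  calc _ = p * (ρ k * (ξ l * q)) * ρ k' * ξ l' := by group
    _ = p * q * ρ k * (ξ l * ρ k') * ξ l' := by rw [← h.qx hq, ← mul_assoc (ρ k), ← h.qr hq]; group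
    _ = _ := by rw [h.xr, mul_assoc (p * q) (ζ _), ← h.rz, h.ra]; group
theorem pm (e : Pr Co ρ ξ p u k l) (e' : Pr Co ρ ξ p' u' k' l') : Pr Co ρ ξ (p * p') (u + u') (k + k') (l + l') := by
  obtain ⟨q, r, rfl⟩ := e; obtain ⟨q', r', rfl⟩ := e'
  obtain ⟨m, s⟩ := h.xa l l'
  exact ⟨_, h.mulz (h.mulz (h.mul r r') (h.zZ (l * k'))) (h.zZ (κ * m)), by
    rw [h.mul3 (h.mem r'), s, h.xz, mul_assoc _ (ζ (κ * m)), ← h.rz]; group⟩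
theorem ps (e : Pr Co ρ ξ p u k l) : p * p = ζ (Qd u + l * k + κ * l) := by
  obtain ⟨q, r, rfl⟩ := e
  rw [h.mul3 (h.mem r), h.sq r, aa, h.ra.z, h.xs, mul_one, h.zadd, h.zadd]
theorem pZ (e : Pr Co ρ ξ p u k l) : p ∈ 𝐂 Z := let ⟨_, r, s⟩ := e
  s ▸ mul_mem (mul_mem (h.zc (h.mem r)) (h.BZ (cent_anti h.BA (h.rK k)))) (h.xZ l)
theorem pe (e : Pr Co ρ ξ p u k l) : E2 p := e2_of_sq (h.ps e ▸ h.za.e2 _)
theorem pz (e : Pr Co ρ ξ p u k l) (m : K) : Pr Co ρ ξ (p * ζ m) u k l := by simpa using h.pm e (h.pq (h.z0 m))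
theorem pi (e : Pr Co ρ ξ p u k l) : Pr Co ρ ξ p⁻¹ u k l := by
  have := h.pz e (Qd u + l * k + κ * l)
  rwa [← h.zi, ← h.ps e, mul_inv_rev, mul_inv_cancel_left] at this
theorem pm' (e : Pr Co ρ ξ p u k l) : Mv ρ ζ p l := let ⟨_, r, s⟩ := e; by
  simpa [s] using h.mvm (mul_mem (h.zc (h.mem r)) (h.BZ (cent_anti h.BA (h.rK k)))) (h.mv0.2 (mul_mem (h.ra.cent.2 (h.qr (h.mem r)))
    (h.ra.cent.2 (h.ra.comm k)))) (h.xm l)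
theorem pB (e : Pr Co ρ ξ p u k l) (m : p ∈ B) : k = 0 ∧ l = 0 ∧ Co p u := by
  have := h.pm' e 1
  rw [h.qr m, mul_inv_cancel_right, mul_one, left_eq_mul] at this
  obtain rfl := h.zinj _ this
  obtain ⟨q, r, rfl⟩ := e
  rw [h.x0, mul_one] at m
  obtain rfl := h.rinj ((mul_mem_cancel_left (h.BA (h.mem r))).1 (h.BA m))
  simpa [h.x0, h.ra.z] using r
theorem po (e : Pr Co ρ ξ p u k l) (ho : o ∈ Oo A (ρ 1)) (c : o ∈ 𝐂 h.ra.rg) : p * o = o * p := let ⟨_, r, s⟩ := e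
  s ▸ Commute.mul_left (Commute.mul_left (mem_cent.1 ho.1 _ (h.BA (h.mem r))) (h.ra.cent.1 c k).symm) (h.xO l o ho).symm

variable (N : Nn A ζ Co η a b c i j ε ε' ν)
include N

theorem lift (hw : w ∈ 𝐂 (A ⊓ 𝐂 (N.ea.rg ⊔ Z : Subgroup G) : Subgroup G)) (e : Mv ρ ζ w 0) (r : Pr Co ρ ξ p u k l) (e2 : E2 (w * p)) :
    ∃ k' m : K, Pr Co ρ ξ (w * p) (m • q4 a b c i + u) (k' + k) l := by
  rw [h.mv0] at e
  obtain ⟨x, hx, m, l', rfl⟩ := h.ke N (h.nA one_ne_zero (h.ra.cent.1 e 1)) hw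
  have s := h.mulz (N.ec m) (h.zZ l')
  obtain ⟨k', o, ho, c, rfl⟩ := h.dec hx ((mul_mem_cancel_right (h.ra.cent.2 (h.qr (h.mem s)))).1 e)
  have s' := h.pm (h.pm (h.pr k') (h.pq s)) r
  rw [mul_assoc (ρ k'), ← mem_cent.1 ho.1 _ (h.BA (h.mem s)), ← mul_assoc, mul_assoc _ o, ← h.po r ho c, ← mul_assoc] at e2 ⊢
  obtain rfl := okill (h.po s' ho c) (h.pe s') e2 ho.2.1
  exact ⟨k', m, by simpa using s'⟩

theorem dr (k l : K) : ν * ξ k * ν⁻¹ * ρ l * (ν * ξ k * ν⁻¹)⁻¹ = ρ l * ε (k * l) := by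
  have c := mem_cent.1 (h.rK l) _ N.nA
  rw [← N.nz, show ν * ξ k * ν⁻¹ * ρ l * (ν * ξ k * ν⁻¹)⁻¹ = ν * (ξ k * (ν⁻¹ * (ρ l * ν)) * (ξ k)⁻¹) * ν⁻¹ by group, ← c,
    inv_mul_cancel_left, h.xm, ← mul_assoc, c]; group
theorem dC (k : K) : ν * ξ k * ν⁻¹ ∈ 𝐂 (A ⊓ 𝐂 (N.ea.rg ⊔ Z : Subgroup G) : Subgroup G) :=
  conj_mem_of_norm (norm_le_norm_cent _ (norm_inf_cent (zp_le_norm (le_norm_self _ N.nA)) (zp_le_norm (h.nE N)) (mem_zpowers ν)))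
    (h.YC N (h.xY k))
theorem dO (k : K) : ν * ξ k * ν⁻¹ ∈ centralizer (Oo A (ρ 1)) := mul_mem (mul_mem (Cf.oh N.nA) (h.xO k)) (inv_mem (Cf.oh N.nA))
theorem de (k l : K) : ν * ξ k * ν⁻¹ * ε l = ε l * (ν * ξ k * ν⁻¹) := ((h.cE N).1 (h.CC N (h.dC N k))).1 l
theorem dZ (k : K) : ν * ξ k * ν⁻¹ ∈ 𝐂 Z := ((h.cE N).1 (h.CC N (h.dC N k))).2
theorem dr' (k l : K) : (ν * ξ k * ν⁻¹)⁻¹ * ρ l * (ν * ξ k * ν⁻¹) = ρ l * ε (k * l) := by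
  rw [mul_assoc, inv_mul_eq_iff_eq_mul, ← mul_assoc _ (ρ l), mul_inv_eq_iff_eq_mul.1 (h.dr N k l), mul_assoc _ _ (ε _), h.de N,
    mul_assoc (ρ l), ← mul_assoc (ε _), N.ea.sq, one_mul]

theorem d2 (k l : K) : ∃ k' m : K, Pr Co ρ ξ (ν * ξ k * ν⁻¹ * ε' l * (ν * ξ k * ν⁻¹)⁻¹) (m • q4 a b c i + l • q4 a b c j) k' (l * k) := by
  have nC : ε' l ∈ 𝐍 (𝐂 (A ⊓ 𝐂 (N.ea.rg ⊔ Z : Subgroup G) : Subgroup G)) := norm_le_norm_cent _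
    (norm_inf_cent (h.BA.trans (le_norm_self A)) (h.BE N) (h.eB' N l))
  have := h.lift N (w := ν * ξ k * ν⁻¹ * (ε' l * (ν * ξ k * ν⁻¹)⁻¹ * (ε' l)⁻¹) * (ξ (l * k))⁻¹)
    (mul_mem (mul_mem (h.dC N k) (conj_mem_of_norm nC (inv_mem (h.dC N k)))) (inv_mem (h.YC N (h.xY _))))
    (aa (l * k) ▸ h.mvm (mul_mem (h.dZ N k) (mul_mem (mul_mem (h.zc (h.eB' N l)) (inv_mem (h.dZ N k))) (inv_mem (h.zc (h.eB' N l)))))
      (fun s => ?_) (h.mvi (h.xZ _) (h.xm _))) (h.pm (h.px (l * k)) (h.pq (N.ec' l)))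
      (by simpa [mul_assoc] using (N.ea'.e2 l).conj (ν * ξ k * ν⁻¹))
  · simpa only [mul_assoc, inv_mul_cancel_left, inv_mul_cancel, mul_one, zero_add, add_zero] using this
  generalize hd : ν * ξ k * ν⁻¹ = d
  have h1 := hd ▸ h.dr N k s; have h2 := hd ▸ h.dr' N k s; have h3 := hd ▸ h.de N k (k * s); have h4 := h.cz (hd ▸ h.dZ N k)
  calc _ = d * (ε' l * (d⁻¹ * ((ε' l)⁻¹ * (ρ s * ε' l)) * d) * (ε' l)⁻¹) * d⁻¹ := by group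
    _ = d * (ε' l * ρ s * (ε' l)⁻¹ * (ε' l * ε (k * s) * (ε' l)⁻¹)) * d⁻¹ := by rw [← h.qr (h.eB' N l), inv_mul_cancel_left, h2]; group
    _ = d * ρ s * d⁻¹ * (d * ε (k * s)) * ζ (l * (k * s)) * d⁻¹ := by rw [h.ee N, h.qr (h.eB' N l)]; group
    _ = _ := by rw [h1, h3, mul_assoc _ _ (ζ _), mul_assoc (ε _) d, h4, mul_assoc (ρ s), ← mul_assoc (ε _), N.ea.sq, mul_assoc l]; group

theorem c0 : κ = 0 := by
  choose f m e using h.d2 N 1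
  have s := fun l => h.ps (e l)
  have e3 := h.pB (h.pm (h.pm (e 1) (e ω)) (e ω')) (by
    rw [show ∀ d x y z : G, d * x * d⁻¹ * (d * y * d⁻¹) * (d * z * d⁻¹) = d * (x * y * z) * d⁻¹ by intros; group, ← N.ea', ← N.ea',
      show (1 : K) + ω + ω' = 0 from rfl, N.ea'.z]; simp)
  have := (h.ker e3.2.2 (by
    rw [show ∀ d x y z : G, d * x * d⁻¹ * (d * y * d⁻¹) * (d * z * d⁻¹) = d * (x * y * z) * d⁻¹ by intros; group, ← N.ea', ← N.ea',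
      show (1 : K) + ω + ω' = 0 from rfl, N.ea'.z]; simp)).Bf (sm_q4 a b c j)
  simp only [show ∀ d x : G, d * x * d⁻¹ * (d * x * d⁻¹) = d * (x * x) * d⁻¹ by intros; group, N.ea'.sq, mul_one, mul_inv_cancel,
    Qd_add', sm_smul, sm_q4, Qd_smul, Qd_q4 h.d5.d4, Qd_q4 h.d5.sw'.d4, smul_Bf, Bf_smul, h.d5.sw'.ee] at s
  simp only [add_Bf, smul_Bf, h.d5.sw'.ee, Bf_self (sm_q4 ..)] at this
  have s1 := h.zinj _ (s 1).symm; have s2 := h.zinj _ (s ω).symm; have s3 := h.zinj _ (s ω').symm; have s4 := e3.1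
  revert s1 s2 s3 s4 this
  generalize f 1 = x1, f ω = x2, f ω' = x3, m 1 = y1, m ω = y2, m ω' = y3
  clear * -; revert x1 x2 x3 y1 y2 y3 κ; decide +kernel

end Xi

end CF.SzC
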