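import Cfsg.Agent.SzC.E3

/-! The frame of the special group and the action of the conjugates of the complement. -/

set_option autoImplicit false
set_option linter.unusedSectionVars false
set_option linter.constructorNameAsVariable false
set_option synthInstance.maxSize 2048

namespace CF.SzC
open Subgroup Cfsg CF.BG CF.GW CF.Ab2 Equiv CF.StA CF.Kondo

variable {G : Type*} [Group G] [Finite G] {n : ℕ} {u u' v t : V n} {σ : Perm (Fin n)} {a b c i j : Fin n} {k k' l l' m μ μ' : K}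
  {ε ε' ζ ρ ξ : K → G} {Co : G → V n → Prop} {A B M Z : Subgroup G} {g o p p' q w x y η ν ν' : G}

/-- coordinates of the products -/
def Cp (Co : G → V n → Prop) (ρ ξ : K → G) (a b c : Fin n) (p : G) (v : V n) : Prop :=
  ∃ u k l, Pr Co ρ ξ p u k l ∧ v = u + (k • dv a b c + l • dv a c b)

/-- the action of the conjugates -/
structure Dl (ζ : K → G) (Co : G → V n → Prop) (ρ ξ : K → G) (a b c i j : Fin n) (ε ε' : K → G) (ν : G) (μ : K) : Prop where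
  dx : ∀ k l, ν * ξ k * ν⁻¹ * ξ l * (ν * ξ k * ν⁻¹)⁻¹ = ξ l * (ε (μ * (k * k) * l) * ζ (μ * (l * l) * k))
  de : ∀ k l, Pr Co ρ ξ (ν * ξ k * ν⁻¹ * ε' l * (ν * ξ k * ν⁻¹)⁻¹) ((μ * (k * k) * l * k) • q4 a b c i + l • q4 a b c j)
    (μ * (k * k) * l) (l * k)

/-- linear actions -/
def Al (Co : G → V n → Prop) (w : G) (f : V n → V n) : Prop := ∀ p u, Co p u → Co (w * p * w⁻¹) (f u)

theorem Al.mul {f f' : V n → V n} (h : Al Co w f) (k : Al Co x f') : Al Co (w * x) (f ∘ f') := fun p u e => by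
  simpa only [mul_inv_rev, mul_assoc, Function.comp] using h _ _ (k p u e)

omit [Finite G] in
theorem cj3 (d x y : G) : d * (x * y * x⁻¹) * d⁻¹ = d * x * d⁻¹ * (d * y * d⁻¹) * (d * x * d⁻¹)⁻¹ := by group
omit [Finite G] in
theorem cj2 (d x y z : G) : d * (x * (y * z)) * d⁻¹ = d * x * d⁻¹ * (d * y * d⁻¹ * (d * z * d⁻¹)) := by group

theorem sqf (f : K → K) : f 0 = 0 → (∀ k, ω * f (ω' * k) = ω' * f k) → ∀ k, f k = f 1 * (k * k) := by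
  rw [fk_eq f]; generalize f 0 = w, f 1 = x, f ω = y, f ω' = z; revert w x y z; decide +kernel

namespace Xi
variable (h : Xi A ζ Co Z B η a b c i j g ρ ξ 0)
include h

theorem xa' : Ad ξ := fun k l => let ⟨m, e⟩ := h.xa k l; by rw [e, zero_mul, h.z1, mul_one]

/-- the special group -/
def PP : Subgroup G where
  carrier := {p | ∃ u k l, Pr Co ρ ξ p u k l}
  one_mem' := ⟨_, _, _, h.pq (h.co0 (one_mem _))⟩
  mul_mem' := fun ⟨_, _, _, e⟩ ⟨_, _, _, e'⟩ => ⟨_, _, _, h.pm e e'⟩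
  inv_mem' := fun ⟨_, _, _, e⟩ => ⟨_, _, _, h.pi e⟩

theorem cq' (e : Co q u) : Cp Co ρ ξ a b c q u := ⟨u, 0, 0, h.pq e, by simp⟩
theorem cr (k : K) : Cp Co ρ ξ a b c (ρ k) (k • dv a b c) := ⟨0, k, 0, h.pr k, by simp⟩
theorem cx (k : K) : Cp Co ρ ξ a b c (ξ k) (k • dv a c b) := ⟨0, 0, k, h.px k, by simp⟩
omit h in
theorem cc (e : Pr Co ρ ξ p (m • q4 a b c i + l' • q4 a b c j) k l) : Cp Co ρ ξ a b c p (cv a b c i j (k, l, m, l')) :=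
  ⟨_, _, _, e, by simp only [cv]; abel⟩

theorem pf : Pf ζ (Cp Co ρ ξ a b c) Z h.PP where
  zadd := h.zadd
  zinj := h.zinj
  zm := h.zm
  ex := fun _ ⟨_, _, _, e⟩ => ⟨_, _, _, _, e, rfl⟩
  mem := fun ⟨_, _, _, e, _⟩ => ⟨_, _, _, e⟩
  sz := fun ⟨_, _, _, ⟨_, e, _⟩, r⟩ => by simp [r, h.sz e]
  sS := fun _ => trivial
  cS := fun _ _ => trivial
  sur := fun u s _ => let ⟨q, e⟩ := h.sur _ (by simp [s]) (h.d5.dec u); ⟨_, _, _, _, ⟨q, e, rfl⟩, by rw [add_assoc u, vv'']⟩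
  mul := fun ⟨_, _, _, e, r⟩ ⟨_, _, _, e', r'⟩ => ⟨_, _, _, h.pm e e', by rw [r, r', add_smul, add_smul]; abel⟩
  z0 := fun k => h.cq' (h.z0 k)
  ker := fun ⟨_, _, _, e, r⟩ m => by obtain ⟨rfl, rfl, s⟩ := h.pB e (h.ZP m); simpa [r] using h.ker s m
  ker' := fun ⟨u, k, l, ⟨q, e, s⟩, r⟩ m => by
    have h1 := m.Bf (sm_dv a b c); have h2 := m.Bf (sm_dv a c b)
    simp only [r, add_Bf, smul_Bf, (h.sS e).bf, (h.sS e).sw.bf, Bf_self (sm_dv ..), h.d5.bf, h.d5.toD3.sw.bf, mul_zero, mul_one,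
      zero_add, add_zero] at h1 h2
    subst h1 h2
    simpa [← s, h.ra.z, h.x0] using h.ker' e (by simpa [r] using m)
  sq := fun ⟨u, k, l, e, r⟩ => by
    obtain ⟨q, s, -⟩ := id e
    simp [h.ps e, r, Qd_add (h.sz s), h.d5.toD3.Qd2, (h.sS s).bf, (h.sS s).sw.bf, mul_comm]
  zc := fun _ ⟨_, _, _, e⟩ => h.pZ e

theorem BP : B ≤ h.PP := fun q hq => let ⟨_, e⟩ := h.ex q hq; ⟨_, _, _, h.pq e⟩

theorem acq (e : Ac Co w σ) (f : σ a = a ∧ σ b = b ∧ σ c = c) (r : ∀ k, w * ρ k * w⁻¹ = ρ k) (x : ∀ k, ∃ l, w * ξ k * w⁻¹ = ξ k * ζ l) :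
    Ac (Cp Co ρ ξ a b c) w σ := fun p v ⟨u, k, l, ⟨q, s, e1⟩, e2⟩ => by
  obtain ⟨m, x⟩ := x l
  have := h.pf.mul (h.pf.mul (h.cq' (e _ _ s)) (h.cr k)) (h.pf.mulz (h.cx l) (h.zZ m))
  rw [← r, ← x] at this
  simpa [← e1, e2, f, mul_assoc, add_assoc] using this

theorem ac0 (hw : w ∈ A ⊓ 𝐂 Z) (e : Ac Co w σ) (f : σ a = a ∧ σ b = b ∧ σ c = c) : Ac (Cp Co ρ ξ a b c) w σ :=
  h.acq e f (fun k => conj_eq_of_comm (mem_cent.1 (h.rK k) w hw.1)) fun k =>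
    ⟨0, by rw [h.z1, mul_one, conj_eq_of_comm (mem_cent.1 (h.xY k) w hw)]⟩

variable (N : Nn A ζ Co η a b c i j ε ε' ν)
include N

theorem d3 (k l : K) : ∃ m m', ν * ξ k * ν⁻¹ * ξ l * (ν * ξ k * ν⁻¹)⁻¹ = ξ l * (ε m * ζ m') := by
  by_cases l0 : l = 0
  · exact ⟨0, 0, by simp [l0, h.x0, h.z1, N.ea.z]⟩
  have hx := h.YC N (h.xY l)
  have := h.lift N (w := ν * ξ k * ν⁻¹ * ξ l * (ν * ξ k * ν⁻¹)⁻¹ * (ξ l)⁻¹)
    (mul_mem (mul_mem (mul_mem (h.dC N k) hx) (inv_mem (h.dC N k))) (inv_mem hx))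
    (aa l ▸ h.mvm (conj_mem_of_norm (le_norm_self _ (h.dZ N k)) (h.xZ l)) (fun s => ?_) (h.mvi (h.xZ _) (h.xm _))) (h.px l)
      (by simpa [mul_assoc] using (h.xa'.e2 l).conj (ν * ξ k * ν⁻¹))
  · obtain ⟨k', m, e⟩ := this
    rw [inv_mul_cancel_right, add_zero, add_zero] at e
    have := h.ps e
    rw [show ∀ d x : G, d * x * d⁻¹ * (d * x * d⁻¹) = d * (x * x) * d⁻¹ by intros; group, h.xa'.sq, mul_one, mul_inv_cancel,
      Qd_smul, Qd_q4 h.d5.d4] at this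
    obtain rfl : k' = 0 := by simpa [l0] using h.zinj _ this.symm
    obtain ⟨q, r, e⟩ := e
    obtain ⟨m', rfl⟩ := h.eqz' (N.ec m) r (cn_self _)
    exact ⟨m, m', by rw [← e, h.ra.z, mul_one, h.qx (h.mem r)]⟩
  generalize hd : ν * ξ k * ν⁻¹ = d
  have h1 := hd ▸ h.dr N k s; have h2 := hd ▸ h.dr' N k s; have h3 := hd ▸ h.de N k (k * s); have h4 := h.cz (hd ▸ h.dZ N k)
  calc _ = d * (ξ l * (d⁻¹ * ρ s * d) * (ξ l)⁻¹) * d⁻¹ := by group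
    _ = d * (ξ l * ρ s * (ξ l)⁻¹ * ε (k * s)) * d⁻¹ := by rw [h2, h.xa'.inv, mul_assoc _ (ξ l) (ε _), ← h.qx (h.eB N _)]; group
    _ = d * ρ s * d⁻¹ * (d * ε (k * s)) * ζ (l * s) * d⁻¹ := by rw [h.xm, mul_assoc (ρ s), ← h.ez N]; group
    _ = _ := by rw [h1, h3, mul_assoc _ _ (ζ _), mul_assoc (ε _) d, h4, mul_assoc (ρ s), ← mul_assoc (ε _), N.ea.sq]; group

theorem nd (k : K) : ν * (ν * ξ k * ν⁻¹) * ν⁻¹ = ξ k := by
  exact Eq.trans (by group) (conj_eq_of_comm (mem_cent.1 (h.xY k) _ (h.nn N)))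

theorem hd (k : K) : η * (ν * ξ k * ν⁻¹) * η⁻¹ = ν * ξ (ω' * k) * ν⁻¹ := by
  have m : ν⁻¹ * η * ν * η ∈ A ⊓ 𝐂 Z := mem_inf.2 ⟨mul_mem (mul_mem (mul_mem (inv_mem N.nA) h.hA) N.nA) h.hA, mem_cent.2 fun _ m => by
    obtain ⟨l, rfl⟩ := h.zm.1 m
    rw [← mul_inv_eq_iff_eq_mul.1 (show ν⁻¹ * η * ν * η * ζ l * (ν⁻¹ * η * ν * η)⁻¹ = ζ l by
      rw [show ν⁻¹ * η * ν * η * ζ l * (ν⁻¹ * η * ν * η)⁻¹ = ν⁻¹ * (η * (ν * (η * ζ l * η⁻¹) * ν⁻¹) * η⁻¹) * ν by group, h.hz, N.nz,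
        N.he, ← mul_assoc ω', mul_comm ω', wv, one_mul, ← N.nz]; group)]⟩
  rw [← conj_eq_of_comm (mem_cent.1 (h.xY (ω' * k)) _ m), show k = ω * (ω' * k) by rw [← mul_assoc, wv, one_mul], ← h.xh,
    ← mul_assoc ω', mul_comm ω' ω, wv, one_mul]; group

theorem dl : ∃ μ, Dl ζ Co ρ ξ a b c i j ε ε' ν μ := by
  choose f f' e using h.d3 N
  choose φ m e' using h.d2 N
  have cj : ∀ d x y : G, d * x * d⁻¹ * (d * y * d⁻¹) = d * (x * y) * d⁻¹ := by intros; group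
  have c1 : ∀ k l, Cp Co ρ ξ a b c (ν * ξ k * ν⁻¹ * ξ l * (ν * ξ k * ν⁻¹)⁻¹) (cv a b c i j (0, l, f k l, 0)) := fun k l => cc (by
    rw [e]; simpa using h.pm (h.px l) (h.pq (h.mulz (N.ec (f k l)) (h.zZ (f' k l)))))
  have h1 := fun k l l' => (h.pf.comm_iff (cc (e' k l)) (c1 k l')).1 (by rw [cj, cj, h.qx (h.eB' N l)])
  have h2 := fun k l => (h.pf.sq1 (cc (e' k l))).1 (by rw [cj, N.ea'.sq]; simp)
  have h3 := fun k => h.d5.cv_inj _ (0, 0, 0, 0) (h.pf.cn (cc (e' k 0)) (by simpa [cv, N.ea'.z] using h.pf.co0 (one_mem _)))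
  simp only [h.d5.bf_cv, h.d5.qd_cv, mul_zero, zero_add, add_zero, add0, Prod.mk.injEq] at h1 h2 h3
  have h4 : ∀ k l, f' l k = f k l := fun k l => by
    have := congrArg (ν * · * ν⁻¹) (e k l)
    rw [cj3, cj2, N.ne, N.nz, h.nd N, ← h.ez N] at this
    have q := h.mem (h.mulz (N.ec (f' k l)) (h.zZ (f k l)))
    have c := mem_cent.1 (h.CC N (h.dC N l)) _ ((h.mE N).2 ⟨f' k l, f k l, rfl⟩)
    have s := (h.sq1 (h.mulz (N.ec (f' k l)) (h.zZ (f k l)))).2 (by simp [Qd_q4 h.d5.d4])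
    refine (h.einj N (k' := f' k l) (mul_left_cancel (a := ξ k) ((e l k).symm.trans ?_))).2
    have q := h.qx q k
    generalize ν * ξ l * ν⁻¹ = d, ε (f' k l) * ζ (f k l) = x at this c s q ⊢
    rw [← q, mul_inv_eq_iff_eq_mul, mul_assoc, mul_inv_eq_iff_eq_mul.1 this, ← c, ← mul_assoc, ← mul_assoc, s, one_mul]
  have h5 : ∀ k, ω * f (ω' * k) 1 = ω' * f k 1 := fun k => by
    have := congrArg (η * · * η⁻¹) (e k 1)
    rw [cj3, cj2, N.he, h.hz, h.xh, h.hd N, e] at this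
    have a1 := h1 (ω' * k) 1 (ω * 1); have a2 := h1 (ω' * k) 1 1
    rw [← (h.einj N (mul_left_cancel this)).1]; grind
  have h6 := sqf (f · 1) (by simpa [h.x0, N.ea.z, h.z1] using (h.einj N (k' := 0) (l' := 0) (by
    simpa [h.x0, N.ea.z, h.z1] using (e 0 1).symm)).1) h5
  have h7 : ∀ k l, f k l = f 1 1 * (k * k) * l := fun k l => by have := h1 k 1 l; have := h1 k 1 1; have := h6 k; grind
  have h8 : ∀ k l, φ k l = f 1 1 * (k * k) * l := fun k l => by have := h1 k l 1; have := h6 k; grind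
  refine ⟨f 1 1, fun k l => by rw [e, h4, h7 k, h7 l], fun k l => ?_⟩
  rw [← h8, show φ k l * k = m k l from ?_]; exact e' k l
  by_cases l0 : l = 0
  · rw [l0, (h3 k).1, (h3 k).2.2.1, zero_mul]
  · exact mul_right_cancel₀ l0 (by rw [← h2]; ring)

theorem dact (D : Dl ζ Co ρ ξ a b c i j ε ε' ν μ) (k : K) :
    Al (Cp Co ρ ξ a b c) (ν * ξ k * ν⁻¹) (sgl (q4 a b c i) (k • dv a c b + (μ * (k * k)) • dv a b c)) :=
  fun p v ⟨u, s, l, ⟨q, r, e1⟩, e2⟩ => by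
  have r' := h.mul (h.inv (N.ec' (Bf u (q4 a b c i)))) r
  have cm := mem_cent.1 (h.dC N k) _ (h.ce N r' (by simp [h.d5.ee]))
  have := h.pf.mul (h.pf.mul (h.pf.mul (cc (D.de k (Bf u (q4 a b c i)))) (h.cq' r')) (h.pf.mul (h.cr s) (h.cq' (N.ec (k * s)))))
    (h.pf.mul (h.cx l) (h.cq' (h.mulz (N.ec (μ * (k * k) * l)) (h.zZ (μ * (l * l) * k)))))
  rw [← D.dx, ← h.dr N, ← conj_eq_of_comm cm.symm] at this
  convert this using 1
  · rw [← e1]; group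
  simp only [e2, sgl, cv, add_Bf, Bf_add, smul_Bf, Bf_smul, h.d5.toD3.sw.Qd2, (h.sS r).bf, (h.sS r).sw.bf, Bf_self (sm_dv ..), h.d5.bf,
    h.d5.toD3.sw.bf, Bf_comm (dv _ _ _) (q4 _ _ _ _), (ss_q4 h.d5.d4).bf, (ss_q4 h.d5.d4).sw.bf]
  ext x; simp only [Pi.add_apply, Pi.smul_apply, smul_eq_mul]; grind

end Xi

end CF.SzC
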