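import Cfsg.Agent.SzC.E4

/-! The parameters and the alternating group. -/

set_option autoImplicit false
set_option linter.unusedSectionVars false
set_option linter.constructorNameAsVariable false
set_option synthInstance.maxSize 2048

namespace CF.SzC
open Subgroup Cfsg CF.BG CF.GW CF.Ab2 Equiv CF.StA CF.Kondo

variable {G : Type*} [Group G] [Finite G] {n : ℕ} {u u' v t : V n} {σ : Perm (Fin n)} {a b c i j : Fin n} {k k' l l' m μ μ' : K}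
  {ε ε' ζ ρ ξ : K → G} {Co : G → V n → Prop} {A B M Z : Subgroup G} {g o p p' q w x y η ν ν' : G} {f : V n → V n}

local notation "Alt" => alternatingGroup

theorem linf (f : K → K → K) (h1 : ∀ k l l', f k (l + l') = f k l + f k l') (h2 : ∀ k k' l, f (k + k') l = f k l + f k' l)
    (h3 : ∀ k l, f (ω' * k) (ω' * l) = ω * f k l) (l : K) : f 1 l = f 1 1 * l := by
  have a1 : f ω' 1 = ω * f 1 ω := h3 1 ω
  have a2 : f 1 ω' = ω * f ω 1 := h3 ω 1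
  have a3 : f ω' 1 = f 1 1 + f ω 1 := h2 1 ω 1
  have a4 : f 1 ω' = f 1 1 + f 1 ω := h1 1 1 ω
  have a5 : f 1 0 = f 1 1 + f 1 1 := h1 1 1 1
  rw [fk_eq (f 1), a4, a5]; rw [a3] at a1; rw [a4] at a2
  revert a1 a2; generalize f 1 1 = x, f 1 ω = y, f ω 1 = z; revert x y z l; decide

theorem y1 (a b c : Fin n) : (1 : K) • dv a c b + ((1 : K) * (1 * 1)) • dv a b c = pr b c := by simpa [add_comm] using dv_dv a b c
theorem yw (a b c : Fin n) : ω • dv a c b + (1 * (ω * ω)) • dv a b c = pr a c := funext fun i => by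
  simp only [dv, pr, sg, Pi.add_apply, Pi.smul_apply, smul_eq_mul]; split_ifs <;> rfl
theorem q4_1 (a b c i : Fin n) : q4 a b c i = q4 b c a i := by simp only [q4, pr]; abel
theorem q4_w (a b c i : Fin n) : q4 a b c i = q4 a c b i := by simp only [q4, pr]; abel

theorem Px.zl {S : V n → Prop} {P : Subgroup G} (h : Px S ζ Co Z P) (hw : w ∈ 𝐂 Z) (k : K) (y : G) : ζ k * (w * y) = w * (ζ k * y) := by
  rw [← mul_assoc, ← h.cz hw, mul_assoc]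

namespace Xi
variable (h : Xi A ζ Co Z B η a b c i j g ρ ξ 0)
include h

section
variable (hO : ∀ k, ρ k ∈ centralizer (Oo A (ρ 1)))
include hO

theorem oR (ho : o ∈ Oo A (ρ 1)) : o ∈ 𝐂 h.ra.rg := h.ra.cent.2 fun k => hO k o ho

theorem ck (hx : x ∈ 𝐂 A) (e : x * ρ 1 = ρ 1 * x) : x ∈ 𝐂 h.ra.rg :=
  le_of_odd h.syl (h.ra.le.2 fun k => h.ra.cent.2 (h.ra.comm k)) (fun _ ho d => h.oR hO ⟨ho.1, d, mem_cent1.1 ho.2⟩)
    ⟨hx, mem_cent1.2 e⟩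

theorem fx (hw : w ∈ 𝐂 Z) (e : w * ρ 1 = ρ 1 * w) : (∀ k, w * ρ k * w⁻¹ = ρ k) ∧ ∀ k, ∃ l, w * ξ k * w⁻¹ = ξ k * ζ l := by
  have nA := h.nA one_ne_zero e
  have e1 := conj_eq_of_comm e
  have h2 : ∀ k, ∃ l, w * ξ k * w⁻¹ = ξ k * ζ l := fun k => by
    by_cases k0 : k = 0
    · exact ⟨0, by simp [k0, h.x0, h.z1]⟩
    have m := mul_mem (conj_mem_of_norm (norm_le_norm_cent _ (h.nC ⟨nA, cent_le_norm _ hw⟩)) (h.xY k)) (inv_mem (h.xY k))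
    have c1 : w * ξ k * w⁻¹ * (ξ k)⁻¹ * ρ 1 = ρ 1 * (w * ξ k * w⁻¹ * (ξ k)⁻¹) := mul_inv_eq_iff_eq_mul.1 (by
      have := congrArg (w * · * w⁻¹) (h.xm k 1)
      rw [cj3, e1, ← mul_assoc w, mul_assoc _ (ζ _), ← h.cz (inv_mem hw), ← mul_assoc, e1] at this
      calc _ = w * ξ k * w⁻¹ * ((ξ k)⁻¹ * ρ 1 * (ξ k)⁻¹⁻¹) * (w * ξ k * w⁻¹)⁻¹ := by group
        _ = w * ξ k * w⁻¹ * ρ 1 * (w * ξ k * w⁻¹)⁻¹ * ζ (k * 1) := by
          rw [h.mvi (h.xZ k) (h.xm k), mul_assoc _ _ (ζ _), h.cz (inv_mem (mul_mem (mul_mem hw (h.xZ k)) (inv_mem hw)))]; group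
        _ = _ := by rw [this, mul_assoc, h.zz, mul_one])
    obtain ⟨x, hx, l, r⟩ := h.cent (h.nA one_ne_zero c1) (h.YB m)
    obtain ⟨k', o, ho, c2, rfl⟩ := h.dec hx (h.ck hO hx (by
      rw [← r, mul_assoc, ← h.rz, ← mul_assoc, ← mul_assoc] at c1; exact mul_right_cancel c1))
    have s := h.pm (h.pz (h.pr k') l) (h.px k)
    have r' : w * ξ k * w⁻¹ = ρ k' * ζ l * ξ k * o := by
      rw [mul_inv_eq_iff_eq_mul.1 r.symm, mul_assoc _ o, h.kz ho.1, mul_assoc _ (ξ k), ← h.xO k o ho]; group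
    obtain rfl := okill (h.po s ho c2) (h.pe s) (r' ▸ (h.xa'.e2 k).conj w) ho.2.1
    have := h.ps s
    rw [mul_one] at r'
    rw [← r', show w * ξ k * w⁻¹ * (w * ξ k * w⁻¹) = w * (ξ k * ξ k) * w⁻¹ by group, h.xa'.sq] at this
    obtain rfl : k' = 0 := by simpa [k0] using h.zinj _ (this.symm.trans (by simp))
    exact ⟨l, by rw [r', h.ra.z, one_mul, h.xz]⟩
  refine ⟨fun k => ?_, h2⟩
  have hx := conj_mem_of_norm (norm_le_norm_cent _ nA) (h.rK k)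
  have c1 : w * ρ k * w⁻¹ * ρ 1 = ρ 1 * (w * ρ k * w⁻¹) := by
    simpa only [e1] using ((show Commute (ρ k) (ρ 1) from h.ra.comm k 1).conj w).eq
  obtain ⟨k', r⟩ := h.syl.mem_of_norm ⟨hx, mem_cent1.2 c1⟩ (cent_le_norm _ (h.ck hO hx c1)) ((h.ra.e2 k).conj w)
  obtain ⟨l, s⟩ := h2 1
  have := congrArg (w * · * w⁻¹) (h.xm 1 k)
  rw [cj3, s, ← mul_assoc w, mul_assoc _ (ζ _) w⁻¹, ← h.cz (inv_mem hw), ← mul_assoc _ w⁻¹, ← r, mul_assoc (ξ 1), ← h.rz, mul_inv_rev,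
    ← mul_assoc, ← mul_assoc, mul_inv_cancel_right, h.xm, one_mul, one_mul] at this
  rw [← r, h.zeq (mul_left_cancel this)]

theorem fx' (hw : w ∈ 𝐂 Z) (e : Al (Cp Co ρ ξ a b c) w f) (r : Cn (f (dv a b c) + dv a b c)) : Cn (f (dv a c b) + dv a c b) := by
  have cr := one_smul K (dv a b c) ▸ h.cr 1; have cx := one_smul K (dv a c b) ▸ h.cx 1
  obtain ⟨l, s⟩ := h.pf.eqz' cr (e _ _ cr) r.symm
  obtain ⟨m, s'⟩ := (h.fx hO (mul_mem (h.xZ l) hw) (mul_inv_eq_iff_eq_mul.1 (by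
    rw [show ξ l * w * ρ 1 * (ξ l * w)⁻¹ = ξ l * (w * ρ 1 * w⁻¹) * (ξ l)⁻¹ by group, s, ← mul_assoc, mul_assoc _ (ζ l),
      ← h.cz (inv_mem (h.xZ l)), ← mul_assoc, h.xm, mul_one, mul_assoc, h.zz, mul_one]))).2 1
  have := h.pf.acP (h.pf.mem (h.cx l)) _ _ (e _ _ cx)
  rw [show ξ l * (w * ξ 1 * w⁻¹) * (ξ l)⁻¹ = ξ l * w * ξ 1 * (ξ l * w)⁻¹ by group, s'] at this
  exact h.pf.cn this (h.pf.mulz cx (h.zZ m))

end

variable (N : Nn A ζ Co η a b c i j ε ε' ν)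
include N

theorem rO (D : Dl ζ Co ρ ξ a b c i j ε ε' ν μ) (e : μ ≠ 0) (k : K) : ρ k ∈ centralizer (Oo A (ρ 1)) := by
  obtain ⟨q, r, s⟩ := D.de 1 (k / μ)
  have := mul_mem (mul_mem (h.dO N 1) (Cf.oh (h.BA (h.eB' N (k / μ))))) (inv_mem (h.dO N 1))
  rwa [← s, mul_mem_cancel_right (h.xO _), mul_mem_cancel_left (Cf.oh (h.BA (h.mem r))), mul_one, mul_one, mul_div_cancel₀ _ e] at this

theorem kap (N' : Nn A ζ Co η a b c j i ε' ε ν') (D : Dl ζ Co ρ ξ a b c i j ε ε' ν 0) :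
    ∃ m, ∀ l, ν * ξ 1 * ν⁻¹ * ε' l * (ν * ξ 1 * ν⁻¹)⁻¹ = ε' l * ξ l * ζ (m * l) := by
  have : ∀ k l, ∃ m, ν * ξ k * ν⁻¹ * ε' l * (ν * ξ k * ν⁻¹)⁻¹ = ε' l * (ξ (l * k) * ζ m) := fun k l => by
    obtain ⟨q, r, s⟩ := D.de k l
    obtain ⟨m, rfl⟩ := h.eqz' (N.ec' l) r (by simpa using cn0)
    exact ⟨m, by rw [← s, h.xz]; simp [h.ra.z, mul_assoc]⟩
  choose f e using this
  have dx := fun k l => show _ = ξ l by simpa only [zero_mul, N.ea.z, h.z1, mul_one] using D.dx k l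
  have c3 : ∀ l m k l' m' k', ε' l * (ξ m * ζ k) * (ε' l' * (ξ m' * ζ k')) = ε' (l + l') * (ξ (m + m') * ζ (k + k')) := by
    intro l m k l' m' k'
    rw [mul_assoc, mul_assoc, ← mul_assoc (ζ k), ← h.sw.ez N', mul_assoc, ← mul_assoc (ξ m), ← h.qx (h.eB' N _), ← mul_assoc (ζ k),
      ← h.xz, N'.ea, h.xa', h.zadd]; group
  have := linf f (fun k l l' => ?_) (fun k k' l => ?_) fun k l => ?_
  · exact ⟨f 1 1, fun l => by rw [e, mul_one, mul_assoc, this]⟩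
  · have := e k (l + l')
    rw [N'.ea, show ∀ d x y : G, d * (x * y) * d⁻¹ = d * x * d⁻¹ * (d * y * d⁻¹) by intros; group, e, e, c3, ← N'.ea, add_mul] at this
    exact (h.zeq (mul_left_cancel (mul_left_cancel this))).symm
  · have := e (k + k') l
    rw [h.xa', show ∀ d x y z : G, d * (x * y) * d⁻¹ * z * (d * (x * y) * d⁻¹)⁻¹ = d * x * d⁻¹ * (d * y * d⁻¹ * z * (d * y * d⁻¹)⁻¹) *
      (d * x * d⁻¹)⁻¹ by intros; group, e, cj2, e, dx, h.cz' (h.dZ N k), ← one_mul (ξ (l * k') * _), ← N'.ea.z, c3, add_zero, mul_add] at this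
    exact (h.zeq (mul_left_cancel (mul_left_cancel this))).symm
  · have := congrArg (η * · * η⁻¹) (e k l)
    rw [cj3, cj2, N'.he, h.hz, h.xh, h.hd N, e, mul_mul_mul_comm] at this
    exact h.zeq (mul_left_cancel (mul_left_cancel this))

variable (N' : Nn A ζ Co η a b c j i ε' ε ν')
include N'

theorem nz (D : Dl ζ Co ρ ξ a b c i j ε ε' ν 0) (D' : Dl ζ Co ρ ξ a b c j i ε' ε ν' 0) : False := by
  obtain ⟨m, e⟩ := h.kap N N' D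
  obtain ⟨m', e'⟩ := h.sw.kap N' N D'
  have r := h.dr N 1; have r' := h.sw.dr N' 1; have z := h.dZ N 1; have z' := h.sw.dZ N' 1
  generalize ν * ξ 1 * ν⁻¹ = d, ν' * ξ 1 * ν'⁻¹ = d' at e e' r r' z z'
  have wz := mul_mem (inv_mem (mul_mem z' z)) (mul_mem z z')
  have s : ∀ l, ξ (m + m' + 1) * ((d' * d)⁻¹ * (d * d')) * ρ l * (ξ (m + m' + 1) * ((d' * d)⁻¹ * (d * d')))⁻¹ = ρ l * ζ (l * l + l) :=
    fun l => by
    have : d * d' * ρ l * (d * d')⁻¹ = d' * d * ρ l * (d' * d)⁻¹ * ζ (l * l + (m + m') * l) := by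
      rw [show d * d' * ρ l * (d * d')⁻¹ = d * (d' * ρ l * d'⁻¹) * d⁻¹ by group, show d' * d * ρ l * (d' * d)⁻¹ = d' * (d * ρ l * d⁻¹) * d'⁻¹
        by group, r, r', one_mul, show ∀ d x y : G, d * (x * y) * d⁻¹ = d * x * d⁻¹ * (d * y * d⁻¹) by intros; group, r, e,
        show ∀ d x y : G, d * (x * y) * d⁻¹ = d * x * d⁻¹ * (d * y * d⁻¹) by intros; group, r', e', one_mul]
      simp only [mul_assoc]
      rw [← mul_assoc (ε' l) (ε l), mul_inv_eq_iff_eq_mul.1 (h.ee N l l)]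
      simp only [mul_assoc, h.zl (h.xZ l), h.zl (h.zc (h.eB' N l)), ← h.zadd]; congr 5; grind
    calc _ = ξ (m + m' + 1) * ((d' * d)⁻¹ * (d * d' * ρ l * (d * d')⁻¹) * (d' * d)) * (ξ (m + m' + 1))⁻¹ := by group
      _ = ξ (m + m' + 1) * ρ l * (ξ (m + m' + 1))⁻¹ * ζ (l * l + (m + m') * l) := by
        rw [this]; simp only [mul_assoc, h.zl z', h.zl z, ← h.cz (inv_mem (h.xZ _))]; group
      _ = _ := by rw [h.xm, mul_assoc, ← h.zadd]; congr 2; grind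
  have := conj_mem_of_norm (norm_le_norm_cent _ (h.nA one_ne_zero (mul_inv_eq_iff_eq_mul.1 ((s 1).trans (by simp [h.z1]))))) (h.rK ω)
  rw [s, mul_mem_cancel_left (h.rK ω)] at this
  exact absurd (h.zinj _ (h.ns.eq_one (h.ZA _) this)) (by decide)

section
variable (D : Dl ζ Co ρ ξ a b c i j ε ε' ν μ) (D' : Dl ζ Co ρ ξ a b c j i ε' ε ν' μ')
include D D'

theorem rO' (k : K) : ρ k ∈ centralizer (Oo A (ρ 1)) := by
  by_cases e : μ = 0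
  · exact h.sw.rO N' D' (fun e' => h.nz N N' (e ▸ D) (e' ▸ D')) k
  · exact h.rO N D e k

theorem mm : μ * μ' = 1 := by
  obtain ⟨k, l, k', l', k'', l'', e, e'⟩ | e := ((word μ μ').imp_right fun e => e.resolve_left fun e => h.nz N N' (e.1 ▸ D) (e.2 ▸ D')).symm
  swap; · exact e
  obtain ⟨F, s, t⟩ : ∃ F : K → K → V n → V n, (∀ k l, Al (Cp Co ρ ξ a b c) (ν' * ξ l * ν'⁻¹ * (ν * ξ k * ν⁻¹)) (F k l)) ∧
      ∀ k l z, F k l (cv a b c i j z) = cv a b c i j (wk μ μ' k l z) :=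
    ⟨_, fun k l => (h.sw.dact N' D' l).mul (h.dact N D k), fun k l z => by
      rw [Function.comp, h.d5.sgl_cv, ← cv_sk, h.d5.sw'.sgl_cv, ← cv_sk]; rfl⟩
  have z := fun k l => mul_mem (h.sw.dZ N' l) (h.dZ N k)
  have := h.fx' (h.rO' N N' D D') (mul_mem (z k l) (mul_mem (z k' l') (z k'' l''))) ((s k l).mul ((s k' l').mul (s k'' l'')))
  rw [show dv a b c = cv a b c i j (1, 0, 0, 0) by simp [cv], show dv a c b = cv a b c i j (0, 1, 0, 0) by simp [cv]] at this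
  simp only [Function.comp, t, e] at this
  exact absurd (h.d5.cv_inj _ _ (this (cn_self _))) e'

theorem m1 (hw : w ∈ A ⊓ 𝐂 Z) (e : Ac Co w σ) (s : σ a = a ∧ σ b = b ∧ σ c = c) (s' : σ i = j) : μ = 1 ∧ μ' = 1 := by
  have aw := h.ac0 hw e s
  have := h.fx' (h.rO' N N' D D') (mul_mem (h.sw.dZ N' 1) (mul_mem hw.2 (mul_mem (h.dZ N 1) (inv_mem hw.2))))
    ((h.sw.dact N' D' 1).mul (Al.mul aw ((h.dact N D 1).mul (h.pf.aci aw))))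
  have i1 : ac σ⁻¹ (dv a b c) = cv a b c i j (1, 0, 0, 0) := by simp [cv, Perm.inv_eq_iff_eq.2 s.1.symm, Perm.inv_eq_iff_eq.2 s.2.1.symm,
    Perm.inv_eq_iff_eq.2 s.2.2.symm]
  have i2 : ac σ⁻¹ (dv a c b) = cv a b c i j (0, 1, 0, 0) := by simp [cv, Perm.inv_eq_iff_eq.2 s.1.symm, Perm.inv_eq_iff_eq.2 s.2.1.symm,
    Perm.inv_eq_iff_eq.2 s.2.2.symm]
  have i3 : ∀ k l m, ac σ (cv a b c i j (k, l, m, 0)) = cv a b c j i (k, l, m, 0) := fun k l m => by simp [cv, s, s']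
  simp only [Function.comp] at this
  rw [i1, i2, h.d5.sgl_cv, h.d5.sgl_cv] at this
  simp only [tk, zero_mul, i3] at this
  rw [h.d5.sw'.sgl_cv, h.d5.sw'.sgl_cv] at this
  simp only [tk, zero_mul, add_zero, zero_add, mul_one, one_mul, aa] at this
  have e := h.d5.sw'.cv_inj (0, 1, μ + μ', 0) (0, 1, 0, 0) (by simpa [cv] using this (by simpa [cv] using cn0))
  have e' := h.mm N N' D D'
  simp only [Prod.mk.injEq, true_and, and_true] at e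
  revert e e'; clear * -; revert μ μ'; decide

end

variable (D : Dl ζ Co ρ ξ a b c i j ε ε' ν 1) (D' : Dl ζ Co ρ ξ a b c j i ε' ε ν' 1)
include D D'

omit N' D' in
theorem d1 : Ac (Cp Co ρ ξ a b c) (ν * ξ 1 * ν⁻¹) (dt a i b c) := fun p u e => by
  have d : D4 b c a i := by have := h.d5.d4; constructor <;> grind [D4]
  simpa only [y1, q4_1 a b c i, sgl_dt d, d.symm'] using h.dact N D 1 p u e

omit N' D' in
theorem dw : Ac (Cp Co ρ ξ a b c) (ν * ξ ω * ν⁻¹) (dt a c b i) := fun p u e => by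
  simpa only [yw, q4_w a b c i, sgl_dt h.d5.d4.s2] using h.dact N D ω p u e

omit N' D D' in
theorem dO' (k : K) : ν * ξ k * ν⁻¹ ∈ 𝐂 Z ⊓ 𝐂 (𝐂 A ⊓ 𝐂 h.PP : Subgroup G) :=
  have : ν ∈ 𝐂 (𝐂 A ⊓ 𝐂 h.PP : Subgroup G) := cent_symm inf_le_left N.nA
  mem_inf.2 ⟨h.dZ N k, mul_mem (mul_mem this (cent_symm inf_le_right (h.pf.mem (h.cx k)))) (inv_mem this)⟩

theorem s1 (mv : ∀ p, p ≠ a → p ≠ b → p ≠ c → p ≠ i → ∃ w ∈ A ⊓ 𝐂 Z, ∃ σ, Ac Co w σ ∧ (σ a = a ∧ σ b = b ∧ σ c = c) ∧ σ j = p)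
    (au : ∀ w ∈ 𝐂 Z, w * ρ 1 = ρ 1 * w → ∃ σ, Ev σ ∧ (σ a = a ∧ σ b = b ∧ σ c = c) ∧ Ac Co w σ)
    (rat : n = 5 → ∀ k l, ¬ IsConj (ρ 1) (ε k * ζ l)) : S1 ζ (Cp Co ρ ξ a b c) Z h.PP (𝐂 A ⊓ 𝐂 h.PP) (ρ 1) := by
  have hO := h.rO' N N' D D'
  refine ⟨h.pf, h.hn, fun σ m => ?_, ⟨a, b, c, h.d5.toD3, one_smul K (dv a b c) ▸ h.cr 1⟩, fun w hw e => ?_, fun w hw e => ?_,
    piGrp_of_forall_elt fun x hx => ?_, inf_le_right, fun e => ⟨a, b, c, i, h.d5.d4, fun k p r => ?_⟩,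
    _, h.dO' N 1, by simp [mul_assoc, ← mul_assoc (ξ 1), h.xa'.sq], _, h.d5.d4.s3.alt, h.d5.d4.s3.dT.ne_one, h.d1 N D⟩
  · let Γ : Subgroup (Perm (Fin n)) := ⟨⟨⟨{σ | ∃ w ∈ 𝐂 Z ⊓ 𝐂 (𝐂 A ⊓ 𝐂 h.PP : Subgroup G), Ac (Cp Co ρ ξ a b c) w σ},
      fun ⟨_, x, y⟩ ⟨_, x', y'⟩ => ⟨_, mul_mem x x', y.mul y'⟩⟩, 1, one_mem _, ac_one'⟩, fun ⟨_, x, y⟩ => ⟨_, inv_mem x, h.pf.aci y⟩⟩
    exact h.d5.gen (Γ := Γ) ⟨_, h.dO' N 1, h.d1 N D⟩ ⟨_, h.sw.dO' N' 1, h.sw.d1 N' D'⟩ ⟨_, h.dO' N ω, h.dw N D⟩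
      (fun p x y z t => let ⟨w, hw, σ, e, s, s'⟩ := mv p x y z t
        ⟨σ, ⟨w, ⟨hw.2, cent_symm inf_le_left hw.1⟩, h.ac0 hw e s⟩, s.1, s'⟩) m
  · obtain ⟨σ, x, y, z⟩ := au w hw e
    exact ⟨σ, x, h.acq z y (h.fx hO hw e).1 (h.fx hO hw e).2⟩
  · obtain ⟨l, s⟩ := h.pf.eqz' (h.cr 1) (e _ _ (h.cr 1)) (cn_self _)
    have c : ξ l * w * ρ 1 = ρ 1 * (ξ l * w) := mul_inv_eq_iff_eq_mul.1 (by
      rw [show ξ l * w * ρ 1 * (ξ l * w)⁻¹ = ξ l * (w * ρ 1 * w⁻¹) * (ξ l)⁻¹ by group, s, ← mul_assoc, mul_assoc _ (ζ l),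
        ← h.cz (inv_mem (h.xZ l)), ← mul_assoc, h.xm, mul_one, mul_assoc, h.zz, mul_one])
    have m : ξ l * w ∈ 𝐍 A ⊓ 𝐂 Z := ⟨h.nA one_ne_zero c, mul_mem (h.xZ l) hw⟩
    obtain ⟨x, hx, q, hq, r⟩ := (mem_sup_norm' (norm_of_cent' (cent_anti h.BA))).1 (h.kr _ m fun q u r => by
      obtain ⟨v, r'⟩ := h.ex _ (conj_mem_of_norm (h.nq (h.nC ⟨m.1, cent_le_norm _ m.2⟩)) (h.mem r))
      exact h.cco r' (h.sz r) (h.pf.cn (h.cq' r') (((h.pf.acP (h.pf.mem (h.cx l))).mul e) _ _ (h.cq' r))))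
    obtain ⟨k, o, ho, c', rfl⟩ := h.dec hx (h.ck hO hx (by
      rw [← r, mul_assoc, h.qr hq, ← mul_assoc, ← mul_assoc] at c; exact mul_right_cancel c))
    rw [← mul_mem_cancel_left (mem_sup_left (h.pf.mem (h.cx l))), ← r]
    exact mul_mem (mul_mem (mem_sup_left (h.pf.mem (h.cr k))) (mem_sup_right ⟨ho.1, mem_cent.2 fun _ ⟨_, _, _, e⟩ => h.po e ho c'⟩))
      (mem_sup_left (h.BP hq))
  · obtain ⟨y, o, hy, -, e2, eo, rfl⟩ := exists_piPart {2} x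
    replace hy := zpowers_le.2 hx hy
    have c : y ∈ 𝐂 h.ra.rg := cent_anti (h.ra.le.2 fun k => h.pf.mem (h.cr k)) hy.2
    obtain ⟨k, rfl⟩ := h.syl.mem_of_norm ⟨hy.1, cent_le_cent1 (h.ra.m 1) c⟩ (cent_le_norm _ c) e2
    have := h.xm 1 k
    rw [mem_cent.1 hy.2 _ (h.pf.mem (h.cx 1)), mul_inv_cancel_right, one_mul, left_eq_mul] at this
    rwa [h.zinj _ this, h.ra.z, one_mul]
  · obtain ⟨l, rfl⟩ := h.pf.eqz' (h.cq' (N.ec k)) r (cn_self _)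
    exact rat e k l

end Xi

end CF.SzC
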